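import Cfsg.Agent.KFacts.OddLift.USixL.Chain

/-!
# The third difference of the good lifts

`dd t u v w = yy t u (v + w) * yy t u v * yy t u w` is central of order at most 2, invariant under `SU₆(2)`, symmetric.
`false_of_bi`: in a perfect double cover it is not identically 1.
`dd_norm`: every value is a value at `(e₀, e₁, c e₂)`; `dd_three`: the product of the three values is 1.
-/

set_option autoImplicit false
set_option linter.unusedSectionVars false
set_option linter.unusedSimpArgs false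

namespace Cfsg.Agent.KFacts.OddLift.USixL

open Subgroup Cfsg Cfsg.Agent.LieClassical.HermBasic Cfsg.Agent.ClassicalGeometry.UnitTransv
  Cfsg.Agent.SporadicStructure.UnitTwo Cfsg.Agent.R01.PSUSix Cfsg.Agent.KFacts.Mult.Calc Cfsg.Agent.KFacts.MulDef
open Cfsg.Agent.ClassicalGeometry.UnitAutBasic (tau pr pr_surjective)
open scoped commutatorElement

universe u v

variable {F : Type v} [Field F] [Fintype F] {hF : Fintype.card F = 2 ^ 2}

/-! ### No biadditive double cover -/

theorem card_PSU (hF : Fintype.card F = 2 ^ 2) : Nat.card (PSU 6 F 2) = 2 ^ 15 * 280665 := by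
  have h := Cfsg.Agent.S0280.result (F := F) (q := 2) hF 6 (by norm_num)
  have e1 : Nat.gcd 6 (2 + 1) = 3 := by decide
  have e2 : (2 : ℕ) ^ (6 * (6 - 1) / 2) * ∏ i ∈ Finset.range 6,
      (if Even i then 2 ^ (i + 1) + 1 else 2 ^ (i + 1) - 1) = 82771476480 := by
    simp only [Finset.prod_range_succ, Finset.prod_range_zero]
    rw [if_pos (by decide), if_neg (by decide), if_pos (by decide), if_neg (by decide),
      if_pos (by decide), if_neg (by decide)]
    norm_num
  rw [e1, e2] at h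
  norm_num
  omega

theorem false_of_bi {L : Type u} [Group L] [Finite L] {π : L →* PSU 6 F 2} {c : L} (hd : Dbl π c)
    {t : (Fin 6 → F) → L} (h : TL hF π t) (hB : Bi t) : False := by
  obtain ⟨ω, hω⟩ := exists_omega hF
  obtain ⟨A, hA⟩ := st9 h hω hB
  have hc1 : π c = 1 := (hd.ker c).2 (Or.inr rfl)
  have hcA : c ∉ A := fun hc => hd.ne (hA.inj c hc hc1)
  refine hd.toCtr.false_of_compl (P := (A.map π).comap π) (P₁ := A) ?_ ?_ hcA ?_
  · rw [mem_comap, hc1]; exact one_mem _
  · rw [index_comap_of_surjective _ hd.surj]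
    have h1 : Nat.card (A.map π) = 2 ^ 15 := by
      rw [← hA.card]
      refine (Nat.card_congr (Equiv.ofBijective (π.subgroupMap A) ⟨?_, π.subgroupMap_surjective A⟩)).symm
      rw [injective_iff_map_eq_one]
      rintro ⟨a, ha⟩ h2
      exact Subtype.ext (hA.inj a ha (congrArg Subtype.val h2))
    have h2 := card_mul_index (A.map π)
    rw [h1, card_PSU hF] at h2
    have h3 := Nat.eq_of_mul_eq_mul_left (by norm_num) h2
    rw [h3]
    norm_num
  · intro x hx
    obtain ⟨a, ha, hax⟩ := hx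
    have h1 : π (x * a⁻¹) = 1 := by rw [map_mul, map_inv, hax, mul_inv_cancel]
    rcases (hd.ker _).1 h1 with h2 | h2
    · left; rw [mul_inv_eq_one.1 h2]; exact ha
    · right
      rw [← h2] at hd ⊢
      have h4 : (x * a⁻¹) * x = a := by
        calc (x * a⁻¹) * x = ((x * a⁻¹) * (x * a⁻¹)) * a := by group
          _ = a := by rw [hd.sq, one_mul]
      rw [h4]; exact ha

/-! ### The third difference -/

variable {K : Type u} [Group K] {f : K →* PSU 6 F 2} {t : (Fin 6 → F) → K}

/-- the third difference -/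
def dd (t : (Fin 6 → F) → K) (u v w : Fin 6 → F) : K := yy t u (v + w) * yy t u v * yy t u w

theorem Tri.puv {u v w : Fin 6 → F} (p : Tri u v w) : PP u v := ⟨p.uu, p.vv, p.uv⟩
theorem Tri.puw {u v w : Fin 6 → F} (p : Tri u v w) : PP u w := ⟨p.uu, p.ww, p.uw⟩
theorem Tri.pvw {u v w : Fin 6 → F} (p : Tri u v w) : PP v w := ⟨p.vv, p.ww, p.vw⟩

theorem Tri.rot (hF : Fintype.card F = 2 ^ 2) {u v w : Fin 6 → F} (p : Tri u v w) : Tri w u v where
  uu := p.ww
  vv := p.uu
  ww := p.vv
  uv := herm_eq_zero_swap hF p.uw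
  uw := herm_eq_zero_swap hF p.vw
  vw := p.uv
  ind := by
    intro a b c e
    obtain ⟨h1, h2, h3⟩ := p.ind b c a (by rw [← e]; abel)
    exact ⟨h3, h1, h2⟩

theorem Tri.act {u v w : Fin 6 → F} (p : Tri u v w) (g : SU 6 F 2) : Tri (act g u) (act g v) (act g w) where
  uu := by rw [herm_act]; exact p.uu
  vv := by rw [herm_act]; exact p.vv
  ww := by rw [herm_act]; exact p.ww
  uv := by rw [herm_act]; exact p.uv
  uw := by rw [herm_act]; exact p.uw
  vw := by rw [herm_act]; exact p.vw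
  ind := by
    intro a b c e
    rw [← act_smul, ← act_smul, ← act_smul, ← act_add, ← act_add] at e
    exact p.ind a b c (act_injective g (e.trans (act_zero g).symm))

section Diff

variable (h : TL hF f t)

include h

theorem dd_mem_MW {u v w : Fin 6 → F} : dd t u v w ∈ MW t (Submodule.span F {u, v, w}) := by
  have mu : u ∈ Submodule.span F {u, v, w} := Submodule.subset_span (by simp)
  have mv : v ∈ Submodule.span F {u, v, w} := Submodule.subset_span (by simp)
  have mw : w ∈ Submodule.span F {u, v, w} := Submodule.subset_span (by simp)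
  exact mul_mem (mul_mem (y_mem mu (Submodule.add_mem _ mv mw)) (y_mem mu mv)) (y_mem mu mw)

theorem dd_sq {u v w : Fin 6 → F} (p : Tri u v w) : dd t u v w * dd t u v w = 1 :=
  MW_sq h (p.ti hF) (dd_mem_MW h)

theorem dd_ker {u v w : Fin 6 → F} (p : Tri u v w) : dd t u v w ∈ f.ker := by
  have pvw : PP u (v + w) := ⟨p.uu, p.pvw.add hF, by rw [herm_add_right hF, p.uv, p.uw, add_zero]⟩
  have hvu := herm_eq_zero_swap hF p.uv
  have hwu := herm_eq_zero_swap hF p.uw
  have hwv := herm_eq_zero_swap hF p.vw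
  have h2 := two_eq_zero hF
  rw [MonoidHom.mem_ker]
  unfold dd
  rw [map_mul, map_mul, map_y h pvw, map_y h p.puv, map_y h p.puw, ← map_mul, ← map_mul, ← map_one (pr 6 F 2)]
  congr 1
  refine ext_act fun x => ?_
  rw [act_mul, act_mul, act_YS, act_YS, act_YS, act_one]
  simp only [herm_add_left, herm_smul_left, herm_add_right hF, p.uu, p.vv, p.ww, p.uv, p.uw, p.vw, hvu, hwu, hwv,
    mul_zero, add_zero, zero_add]
  funext i
  simp only [Pi.add_apply, Pi.smul_apply, smul_eq_mul]
  linear_combination (hermForm 6 F 2 x u * v i + hermForm 6 F 2 x v * u i + hermForm 6 F 2 x u * w i +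
    hermForm 6 F 2 x w * u i) * h2

theorem conj_dd {u v w : Fin 6 → F} (p : Tri u v w) {k : K} {g : SU 6 F 2} (hk : f k = pr 6 F 2 g) :
    k * dd t u v w * k⁻¹ = dd t (act g u) (act g v) (act g w) := by
  have pvw : PP u (v + w) := ⟨p.uu, p.pvw.add hF, by rw [herm_add_right hF, p.uv, p.uw, add_zero]⟩
  unfold dd
  rw [← act_add, ← conj_y h pvw hk, ← conj_y h p.puv hk, ← conj_y h p.puw hk]
  group

theorem dd_act (hf : Function.Surjective f) (hZ : f.ker ≤ center K) {u v w : Fin 6 → F} (p : Tri u v w)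
    (g : SU 6 F 2) : dd t (act g u) (act g v) (act g w) = dd t u v w := by
  obtain ⟨k, hk⟩ := hf (pr 6 F 2 g)
  have h1 := mem_center_iff.1 (hZ (dd_ker h p)) k
  rw [← conj_dd h p hk, h1, mul_inv_cancel_right]

/-- the symmetric form -/
theorem dd_eq {u v w : Fin 6 → F} (p : Tri u v w) :
    dd t u v w = t u * t v * t w * t (v + w) * t (u + v) * t (u + w) * t (u + v + w) := by
  have hW := p.ti hF
  have mu : u ∈ Submodule.span F {u, v, w} := Submodule.subset_span (by simp)
  have mv : v ∈ Submodule.span F {u, v, w} := Submodule.subset_span (by simp)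
  have mw : w ∈ Submodule.span F {u, v, w} := Submodule.subset_span (by simp)
  have muv := Submodule.add_mem _ mu mv
  have muw := Submodule.add_mem _ mu mw
  have mvw := Submodule.add_mem _ mv mw
  have muvw := Submodule.add_mem _ muv mw
  have n1 := t_mem (t := t) mu
  have n2 := t_mem (t := t) mv
  have n3 := t_mem (t := t) mw
  have n4 := t_mem (t := t) muv
  have n5 := t_mem (t := t) muw
  have n6 := t_mem (t := t) mvw
  have n7 := t_mem (t := t) muvw
  have c := fun {a b : K} (ha : a ∈ MW t (Submodule.span F {u, v, w})) (hb : b ∈ MW t (Submodule.span F {u, v, w})) =>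
    MW_comm h hW ha hb
  have s := h.sq u p.uu
  unfold dd yy
  rw [← add_assoc u v w]
  generalize t u = U at *
  generalize t v = V at *
  generalize t w = W at *
  generalize t (u + v) = A at *
  generalize t (u + w) = B at *
  generalize t (v + w) = C at *
  generalize t (u + v + w) = D at *
  calc U * C * D * (U * V * A) * (U * W * B) = U * ((C * D) * (U * V * A)) * (U * W * B) := by group
    _ = U * ((U * V * A) * (C * D)) * (U * W * B) := by
        rw [c (mul_mem n6 n7) (mul_mem (mul_mem n1 n2) n4)]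
    _ = (U * U) * (V * A * (C * D) * U) * W * B := by group
    _ = (V * A * (C * D) * U) * W * B := by rw [s, one_mul]
    _ = (U * (V * A * (C * D))) * W * B := by rw [c (mul_mem (mul_mem n2 n4) (mul_mem n6 n7)) n1]
    _ = U * V * (A * C * D * W) * B := by group
    _ = U * V * (W * (A * C * D)) * B := by rw [c (mul_mem (mul_mem n4 n6) n7) n3]
    _ = U * V * W * ((A * C) * (D * B)) := by group
    _ = U * V * W * ((C * A) * (B * D)) := by rw [c n4 n6, c n7 n5]
    _ = U * V * W * C * A * B * D := by group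

/-- cyclic symmetry -/
theorem dd_rot {u v w : Fin 6 → F} (p : Tri u v w) : dd t u v w = dd t w u v := by
  rw [dd_eq h p, dd_eq h (p.rot hF)]
  have hW := p.ti hF
  have mu : u ∈ Submodule.span F {u, v, w} := Submodule.subset_span (by simp)
  have mv : v ∈ Submodule.span F {u, v, w} := Submodule.subset_span (by simp)
  have mw : w ∈ Submodule.span F {u, v, w} := Submodule.subset_span (by simp)
  have muv := Submodule.add_mem _ mu mv
  have muw := Submodule.add_mem _ mu mw
  have mvw := Submodule.add_mem _ mv mw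
  have muvw := Submodule.add_mem _ muv mw
  have n1 := t_mem (t := t) mu
  have n2 := t_mem (t := t) mv
  have n3 := t_mem (t := t) mw
  have n4 := t_mem (t := t) muv
  have n5 := t_mem (t := t) muw
  have n6 := t_mem (t := t) mvw
  have n7 := t_mem (t := t) muvw
  have c := fun {a b : K} (ha : a ∈ MW t (Submodule.span F {u, v, w})) (hb : b ∈ MW t (Submodule.span F {u, v, w})) =>
    MW_comm h hW ha hb
  have e1 : w + u = u + w := add_comm _ _
  have e2 : w + v = v + w := add_comm _ _
  have e3 : w + u + v = u + v + w := by abel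
  rw [e3, e1, e2]
  generalize t u = U at *
  generalize t v = V at *
  generalize t w = W at *
  generalize t (u + v) = A at *
  generalize t (u + w) = B at *
  generalize t (v + w) = C at *
  generalize t (u + v + w) = D at *
  calc U * V * W * C * A * B * D = (U * V * W) * (C * A * B) * D := by group
    _ = (W * (U * V)) * (A * B * C) * D := by
        rw [c (mul_mem n1 n2) n3, mul_assoc C A B, c n6 (mul_mem n4 n5)]
    _ = W * U * V * A * B * C * D := by group

/-- a scalar on all -/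
theorem dd_smul {u v w : Fin 6 → F} (p : Tri u v w) {c : F} (hc : c ≠ 0) : dd t (c • u) (c • v) (c • w) = dd t u v w := by
  have pvw : PP u (v + w) := ⟨p.uu, p.pvw.add hF, by rw [herm_add_right hF, p.uv, p.uw, add_zero]⟩
  unfold dd
  rw [← smul_add, y_smul_smul h pvw hc, y_smul_smul h p.puv hc, y_smul_smul h p.puw hc]

omit h in
theorem Tri.line {u v w : Fin 6 → F} (p : Tri u v w) : Line u v where
  uu := p.uu
  vv := p.vv
  uv := p.uv
  u0 := by
    intro e
    exact one_ne_zero (p.ind 1 0 0 (by rw [e, smul_zero, zero_smul, zero_smul, add_zero, add_zero])).1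
  np := by
    intro c e
    have := (p.ind c (-1) 0 (by rw [e, zero_smul, add_zero, neg_smul, one_smul, add_neg_cancel])).2.1
    exact one_ne_zero (neg_eq_zero.1 this)

/-- the three values with a scalar on the last -/
theorem dd_three {u v w : Fin 6 → F} (p : Tri u v w) {ω : F} (hω : ω ^ 2 + ω + 1 = 0) :
    dd t u v w * dd t u v (ω • w) * dd t u v (ω ^ 2 • w) = 1 := by
  have hω0 := omega_ne_zero hω
  have hW := (p.rot hF).ti hF
  have hwu := herm_eq_zero_swap hF p.uw
  have hwv := herm_eq_zero_swap hF p.vw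
  have q : ∀ c : F, c ≠ 0 → Tri u v (c • w) := fun c hc => by
    have := p.smul hF one_ne_zero one_ne_zero hc
    rwa [one_smul, one_smul] at this
  have l1 : Line u w := by
    have h1 := (p.rot hF).line
    exact ⟨p.uu, p.ww, p.uw, (p.line).u0, fun c e => by
      have := (p.ind c 0 (-1) (by rw [e, zero_smul, add_zero, neg_smul, one_smul, add_neg_cancel])).2.2
      exact one_ne_zero (neg_eq_zero.1 this)⟩
  have l2 : Line v w := ⟨p.vv, p.ww, p.vw, fun e =>
      one_ne_zero (p.ind 0 1 0 (by rw [e, smul_zero, zero_smul, zero_smul, add_zero, add_zero])).2.1, fun c e => by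
      have := (p.ind 0 c (-1) (by rw [e, zero_smul, zero_add, neg_smul, one_smul, add_neg_cancel])).2.2
      exact one_ne_zero (neg_eq_zero.1 this)⟩
  have l3 : Line (u + v) w := ⟨p.puv.add hF, p.ww, by rw [herm_add_left, p.uw, p.vw, add_zero], fun e =>
      one_ne_zero (p.ind 1 1 0 (by rw [one_smul, one_smul, e, zero_smul, add_zero])).1, fun c e => by
      have := (p.ind c c (-1) (by rw [← smul_add, e, neg_smul, one_smul, add_neg_cancel])).2.2
      exact one_ne_zero (neg_eq_zero.1 this)⟩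
  have key : ∀ c : F, c ≠ 0 → dd t u v (c • w) = yy t (u + v) (c • w) * yy t u (c • w) * yy t v (c • w) := by
    intro c hc
    have qc := q c hc
    have p3 := pp_smul h l3 c
    rw [dd_rot h qc]
    unfold dd
    rw [y_symm h (p3.symm hF), y_symm h ((qc.puw).symm hF), y_symm h ((qc.pvw).symm hF)]
  have key1 := key 1 one_ne_zero
  rw [one_smul] at key1
  rw [key1, key ω hω0, key _ (pow_ne_zero 2 hω0)]
  have s1 := y_line_three h l3 hω
  have s2 := y_line_three h l1 hω
  have s3 := y_line_three h l2 hω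
  have mw : w ∈ Submodule.span F {w, u, v} := Submodule.subset_span (by simp)
  have mu : u ∈ Submodule.span F {w, u, v} := Submodule.subset_span (by simp)
  have mv : v ∈ Submodule.span F {w, u, v} := Submodule.subset_span (by simp)
  have muv := Submodule.add_mem _ mu mv
  have n : ∀ {a : Fin 6 → F} (c : F), a ∈ Submodule.span F {w, u, v} →
      yy t a (c • w) ∈ MW t (Submodule.span F {w, u, v}) := fun c ha => y_mem ha (Submodule.smul_mem _ c mw)
  have n' : ∀ {a : Fin 6 → F}, a ∈ Submodule.span F {w, u, v} →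
      yy t a w ∈ MW t (Submodule.span F {w, u, v}) := fun ha => y_mem ha mw
  have c := fun {a b : K} (ha : a ∈ MW t (Submodule.span F {w, u, v})) (hb : b ∈ MW t (Submodule.span F {w, u, v})) =>
    MW_comm h hW ha hb
  have a1 := n' muv
  have a2 := n ω muv
  have a3 := n (ω ^ 2) muv
  have b1 := n' mu
  have b2 := n ω mu
  have b3 := n (ω ^ 2) mu
  have c1 := n' mv
  have c2 := n ω mv
  have c3 := n (ω ^ 2) mv
  generalize yy t (u + v) w = A1 at *
  generalize yy t (u + v) (ω • w) = A2 at *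
  generalize yy t (u + v) (ω ^ 2 • w) = A3 at *
  generalize yy t u w = B1 at *
  generalize yy t u (ω • w) = B2 at *
  generalize yy t u (ω ^ 2 • w) = B3 at *
  generalize yy t v w = C1 at *
  generalize yy t v (ω • w) = C2 at *
  generalize yy t v (ω ^ 2 • w) = C3 at *
  calc A1 * B1 * C1 * (A2 * B2 * C2) * (A3 * B3 * C3)
      = A1 * ((B1 * C1) * A2) * B2 * C2 * A3 * B3 * C3 := by group
    _ = A1 * (A2 * (B1 * C1)) * B2 * C2 * A3 * B3 * C3 := by rw [c (mul_mem b1 c1) a2]
    _ = A1 * A2 * ((B1 * C1 * B2 * C2) * A3) * B3 * C3 := by group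
    _ = A1 * A2 * (A3 * (B1 * C1 * B2 * C2)) * B3 * C3 := by
        rw [c (mul_mem (mul_mem (mul_mem b1 c1) b2) c2) a3]
    _ = (A1 * A2 * A3) * B1 * (C1 * B2) * C2 * B3 * C3 := by group
    _ = B1 * (B2 * C1) * C2 * B3 * C3 := by rw [s1, one_mul, c c1 b2]
    _ = B1 * B2 * ((C1 * C2) * B3) * C3 := by group
    _ = B1 * B2 * (B3 * (C1 * C2)) * C3 := by rw [c (mul_mem c1 c2) b3]
    _ = (B1 * B2 * B3) * (C1 * C2 * C3) := by group
    _ = 1 := by rw [s2, s3, one_mul]

end Diff

/-! ### Transitivity -/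

section Orbit

variable (hF)

include hF

/-- a transvection moving `x` to a multiple of `e` -/
theorem move {x e : Fin 6 → F} (xx : hermForm 6 F 2 x x = 0) (ee : hermForm 6 F 2 e e = 0)
    (hxe : hermForm 6 F 2 x e ≠ 0) : ∃ g : SU 6 F 2, act g x = hermForm 6 F 2 x e • e ∧
      ∀ s, hermForm 6 F 2 s x = 0 → hermForm 6 F 2 s e = 0 → act g s = s := by
  set k := hermForm 6 F 2 x e with hk
  have h2 := two_eq_zero hF
  have hex : hermForm 6 F 2 e x = k ^ 2 := herm_swap hF x e
  have k3 : k ^ 3 = 1 := pow_three hF hxe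
  have zz : hermForm 6 F 2 (k ^ 2 • x + e) (k ^ 2 • x + e) = 0 := by
    rw [herm_add_left, herm_add_right hF, herm_add_right hF, herm_smul_left, herm_smul_left, herm_smul_right,
      herm_smul_right, xx, ee, ← hk, hex]
    linear_combination (1 + k ^ 3 + 1) * k3 + h2
  refine ⟨T hF _ zz, ?_, fun s h1 h3 => ?_⟩
  · rw [act_T, herm_add_right hF, herm_smul_right, xx, ← hk, mul_zero, zero_add, smul_add, smul_smul]
    have e1 : k * k ^ 2 = 1 := by linear_combination k3
    rw [e1, one_smul, ← add_assoc, vadd_self hF, zero_add]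
  · apply act_T_of_perp hF
    rw [herm_add_right hF, herm_smul_right, h1, h3, mul_zero, add_zero]

theorem move₂ {x y e : Fin 6 → F} (xx : hermForm 6 F 2 x x = 0) (yy : hermForm 6 F 2 y y = 0)
    (ee : hermForm 6 F 2 e e = 0) (hxy : hermForm 6 F 2 x y ≠ 0) (hye : hermForm 6 F 2 y e ≠ 0) :
    ∃ (g : SU 6 F 2) (c : F), c ≠ 0 ∧ act g x = c • e ∧
      ∀ s, hermForm 6 F 2 s x = 0 → hermForm 6 F 2 s y = 0 → hermForm 6 F 2 s e = 0 → act g s = s := by
  obtain ⟨g, h1, h2⟩ := move hF xx yy hxy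
  obtain ⟨g', h1', h2'⟩ := move hF yy ee hye
  refine ⟨g' * g, _, mul_ne_zero hxy hye, ?_, fun s k1 k2 k3 => ?_⟩
  · rw [act_mul, h1, act_smul, h1', smul_smul]
  · rw [act_mul, h2 s k1 k2, h2' s k2 k3]

variable {ω : F} (hω : ω ^ 2 + ω + 1 = 0)

include hω

/-- coordinates -/
theorem expand (x : Fin 6 → F) : x = hermForm 6 F 2 x (ff ω 0) • ee 0 + hermForm 6 F 2 x (ee 0) • ff ω 0 +
    (hermForm 6 F 2 x (ff ω 1) • ee 1 + hermForm 6 F 2 x (ee 1) • ff ω 1) +
    (hermForm 6 F 2 x (ff ω 2) • ee 2 + hermForm 6 F 2 x (ee 2) • ff ω 2) := by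
  have h2 := two_eq_zero hF
  have h3 : ω ^ 3 = 1 := omega_cubed hω
  have even : ∀ a b : F, a = a * ω ^ 2 + b * (ω ^ 2) ^ 2 + (a + b) * ω := fun a b => by
    linear_combination (-a) * hω + a * h2 - ω * b * h3 - ω * b * h2
  have odd : ∀ a b : F, b = a * ω ^ 2 + b * (ω ^ 2) ^ 2 + (a + b) * ω ^ 2 := fun a b => by
    linear_combination (-a * ω ^ 2) * h2 + b * h2 - b * hω - ω * b * h3
  funext i
  simp only [herm_def]
  fin_cases i
  · simp [Fin.sum_univ_succ, ff, ee]; exact even _ _
  · simp [Fin.sum_univ_succ, ff, ee]; exact odd _ _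
  · simp [Fin.sum_univ_succ, ff, ee]; exact even _ _
  · simp [Fin.sum_univ_succ, ff, ee]; exact odd _ _
  · simp [Fin.sum_univ_succ, ff, ee]; exact even _ _
  · simp [Fin.sum_univ_succ, ff, ee]; exact odd _ _

theorem ff_ne_zero (i : Fin 3) : ff ω i ≠ 0 := by
  intro e
  have := herm_fe hF hω i i
  rw [e, herm_zero_left, if_pos rfl] at this
  exact zero_ne_one this

/-- **Every triple is a multiple of the standard one, up to `SU₆(2)`.** -/
theorem exists_act {u v w : Fin 6 → F} (p : Tri u v w) : ∃ (g : SU 6 F 2) (a b c : F), a ≠ 0 ∧ b ≠ 0 ∧ c ≠ 0 ∧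
    act g u = a • ee 0 ∧ act g v = b • ee 1 ∧ act g w = c • ee 2 := by
  have hee := herm_ee (F := F) hF
  have hfe := herm_fe hF hω
  have hef := herm_ef hF hω
  have hff := herm_ff hF hω
  -- `u`
  have u0 : u ≠ 0 := p.line.u0
  obtain ⟨g₁, a, ha, h₁⟩ := exists_map hF u (ee 0) u0 (ee_ne_zero 0) p.uu (hee 0 0)
  have p₁ := p.act g₁
  rw [h₁] at p₁
  -- `v`
  have h0 : ∀ {x : Fin 6 → F}, hermForm 6 F 2 (a • ee 0) x = 0 → hermForm 6 F 2 (ee 0) x = 0 := by
    intro x hx
    rw [herm_smul_left] at hx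
    exact (mul_eq_zero.1 hx).resolve_left ha
  obtain ⟨g₂, b, hb, h₂, k₂⟩ : ∃ (g : SU 6 F 2) (c : F), c ≠ 0 ∧ act g (act g₁ v) = c • ee 1 ∧
      act g (ee 0) = ee 0 := by
    set x := act g₁ v
    have x0 := h0 p₁.uv
    by_cases hx : hermForm 6 F 2 x (ee 1) = 0
    · by_cases hx1 : hermForm 6 F 2 x (ff ω 1) = 0
      · -- `y = f₁ + z`
        obtain ⟨z, z1, z2, z3, z4, z5, z6⟩ : ∃ z : Fin 6 → F, hermForm 6 F 2 z z = 0 ∧ hermForm 6 F 2 x z ≠ 0 ∧
            hermForm 6 F 2 (ee 0) z = 0 ∧ hermForm 6 F 2 z (ee 1) = 0 ∧ hermForm 6 F 2 z (ff ω 1) = 0 ∧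
            hermForm 6 F 2 (ff ω 1) z = 0 := by
          by_cases y1 : hermForm 6 F 2 x (ee 2) = 0
          · by_cases y2 : hermForm 6 F 2 x (ff ω 2) = 0
            · exfalso
              have e := expand hF hω x
              rw [hx, hx1, y1, y2, herm_eq_zero_swap hF x0] at e
              simp only [zero_smul, add_zero] at e
              have := (p₁.ind (hermForm 6 F 2 x (ff ω 0) * a⁻¹) (-1) 0 (by
                rw [zero_smul, add_zero, smul_smul, mul_assoc, inv_mul_cancel₀ ha, mul_one, ← e, neg_smul, one_smul,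
                  add_neg_cancel])).2.1
              exact one_ne_zero (neg_eq_zero.1 this)
            · exact ⟨ff ω 2, hff _ _, y2, by rw [hef, if_neg (by decide)], by rw [hfe, if_neg (by decide)], hff _ _,
                hff _ _⟩
          · exact ⟨ee 2, hee _ _, y1, hee _ _, hee _ _, by rw [hef, if_neg (by decide)],
              by rw [hfe, if_neg (by decide)]⟩
        have yy : hermForm 6 F 2 (ff ω 1 + z) (ff ω 1 + z) = 0 := by
          rw [herm_add_left, herm_add_right hF, herm_add_right hF, hff, z1, z5, z6]; simp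
        have hxy : hermForm 6 F 2 x (ff ω 1 + z) ≠ 0 := by
          rw [herm_add_right hF, hx1, zero_add]; exact z2
        have hye : hermForm 6 F 2 (ff ω 1 + z) (ee 1) ≠ 0 := by
          rw [herm_add_left, z4, hfe, if_pos rfl, add_zero]; exact one_ne_zero
        obtain ⟨g, c, hc, hg, hs⟩ := move₂ hF p₁.vv yy (hee 1 1) hxy hye
        exact ⟨g, c, hc, hg, hs _ x0 (by
          rw [herm_add_right hF, hef, if_neg (by decide), z3, add_zero]) (hee _ _)⟩
      · obtain ⟨g, c, hc, hg, hs⟩ := move₂ hF p₁.vv (hff 1 1) (hee 1 1) hx1 (by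
          rw [hfe, if_pos rfl]; exact one_ne_zero)
        exact ⟨g, c, hc, hg, hs _ x0 (by rw [hef, if_neg (by decide)]) (hee _ _)⟩
    · obtain ⟨g, hg, hs⟩ := move hF p₁.vv (hee 1 1) hx
      exact ⟨g, _, hx, hg, hs _ x0 (hee _ _)⟩
  have p₂ := p₁.act g₂
  rw [act_smul, k₂, h₂] at p₂
  have h0' : ∀ {x : Fin 6 → F}, hermForm 6 F 2 (b • ee 1) x = 0 → hermForm 6 F 2 (ee 1) x = 0 := by
    intro x hx
    rw [herm_smul_left] at hx
    exact (mul_eq_zero.1 hx).resolve_left hb
  -- `w`
  obtain ⟨g₃, c, hc, h₃, k₃, l₃⟩ : ∃ (g : SU 6 F 2) (c : F), c ≠ 0 ∧ act g (act g₂ (act g₁ w)) = c • ee 2 ∧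
      act g (ee 0) = ee 0 ∧ act g (ee 1) = ee 1 := by
    set x := act g₂ (act g₁ w)
    have x0 := h0 p₂.uw
    have x1 := h0' p₂.vw
    by_cases hx : hermForm 6 F 2 x (ee 2) = 0
    · have hx1 : hermForm 6 F 2 x (ff ω 2) ≠ 0 := by
        intro y2
        have e := expand hF hω x
        rw [hx, y2, herm_eq_zero_swap hF x0, herm_eq_zero_swap hF x1] at e
        simp only [zero_smul, add_zero] at e
        have := (p₂.ind (hermForm 6 F 2 x (ff ω 0) * a⁻¹) (hermForm 6 F 2 x (ff ω 1) * b⁻¹) (-1) (by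
          rw [smul_smul, mul_assoc, inv_mul_cancel₀ ha, mul_one, smul_smul, mul_assoc, inv_mul_cancel₀ hb, mul_one,
            ← e, neg_smul, one_smul, add_neg_cancel])).2.2
        exact one_ne_zero (neg_eq_zero.1 this)
      obtain ⟨g, c, hc, hg, hs⟩ := move₂ hF p₂.ww (hff 2 2) (hee 2 2) hx1 (by
          rw [hfe, if_pos rfl]; exact one_ne_zero)
      exact ⟨g, c, hc, hg, hs _ x0 (by rw [hef, if_neg (by decide)]) (hee _ _),
        hs _ x1 (by rw [hef, if_neg (by decide)]) (hee _ _)⟩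
    · obtain ⟨g, hg, hs⟩ := move hF p₂.ww (hee 2 2) hx
      exact ⟨g, _, hx, hg, hs _ x0 (hee _ _), hs _ x1 (hee _ _)⟩
  refine ⟨g₃ * (g₂ * g₁), a, b, c, ha, hb, hc, ?_, ?_, ?_⟩
  · rw [act_mul, act_mul, h₁, act_smul, k₂, act_smul, k₃]
  · rw [act_mul, act_mul, h₂, act_smul, l₃]
  · rw [act_mul, act_mul, h₃]

/-- elementary matrices -/
theorem exists_el {i j : Fin 3} (hij : i ≠ j) (s : F) : ∃ g : SU 6 F 2, act g (ee i) = ee i + s • ee j ∧
    ∀ k, k ≠ i → act g (ee k) = ee k := by
  have hee := herm_ee (F := F) hF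
  have hef := herm_ef hF hω
  have pp : PP (ff ω i) (s • ee j) := ⟨herm_ff hF hω _ _, herm_smul_self hF (hee _ _) s, by
    rw [herm_smul_right, herm_fe hF hω, if_neg hij, mul_zero]⟩
  refine ⟨YS hF pp, ?_, fun k hk => ?_⟩
  · rw [act_YS, hef, if_pos rfl, herm_smul_right, hee, mul_zero, zero_smul, add_zero, one_smul]
  · rw [act_YS, hef, if_neg hk, herm_smul_right, hee, mul_zero, zero_smul, zero_smul, add_zero, add_zero]

/-- diagonal matrices -/
theorem exists_diag {i j : Fin 3} (hij : i ≠ j) {a : F} (ha : a ≠ 0) : ∃ g : SU 6 F 2, act g (ee i) = a • ee i ∧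
    act g (ee j) = a⁻¹ • ee j ∧ ∀ k, k ≠ i → k ≠ j → act g (ee k) = ee k := by
  have h2 := two_eq_zero hF
  have hi : a⁻¹ * a = 1 := inv_mul_cancel₀ ha
  obtain ⟨g₁, x₁, y₁⟩ := exists_el hF hω (Ne.symm hij) (1 + a⁻¹)
  obtain ⟨g₂, x₂, y₂⟩ := exists_el hF hω hij (1 : F)
  obtain ⟨g₃, x₃, y₃⟩ := exists_el hF hω (Ne.symm hij) (a + 1)
  obtain ⟨g₄, x₄, y₄⟩ := exists_el hF hω hij (a⁻¹)
  refine ⟨g₄ * (g₃ * (g₂ * g₁)), ?_, ?_, fun k hk1 hk2 => ?_⟩
  · rw [act_mul, act_mul, act_mul, y₁ _ hij, x₂, one_smul, act_add, y₃ _ hij, x₃, act_add, act_add, act_smul, x₄,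
      y₄ _ (Ne.symm hij)]
    generalize (ee i : Fin 6 → F) = x
    generalize (ee j : Fin 6 → F) = y
    funext k
    simp only [Pi.add_apply, Pi.smul_apply, smul_eq_mul]
    linear_combination (x k + a⁻¹ * y k + y k) * h2 + y k * hi
  · simp only [act_mul, act_add, act_smul, x₁, x₂, y₂ _ (Ne.symm hij), x₃, y₃ _ hij, x₄, y₄ _ (Ne.symm hij), one_smul]
    generalize (ee i : Fin 6 → F) = x
    generalize (ee j : Fin 6 → F) = y
    funext k
    simp only [Pi.add_apply, Pi.smul_apply, smul_eq_mul]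
    linear_combination (x k * (a + 2 + a⁻¹)) * h2 + x k * hi + (y k * (2 + 2 * a⁻¹ + a⁻¹ ^ 2)) * h2 +
      (y k * (2 + a⁻¹)) * hi
  · rw [act_mul, act_mul, act_mul, y₁ _ hk2, y₂ _ hk1, y₃ _ hk2, y₄ _ hk1]

end Orbit

section Norm

variable (h : TL hF f t) (hf : Function.Surjective f) (hZ : f.ker ≤ center K)

include h hf hZ

/-- every value of the third difference is a value at `(e₀, e₁, c e₂)` -/
theorem dd_norm {u v w : Fin 6 → F} (p : Tri u v w) : ∃ c : F, c ≠ 0 ∧ dd t u v w = dd t (ee 0) (ee 1) (c • ee 2) := by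
  obtain ⟨ω, hω⟩ := exists_omega hF
  obtain ⟨g, a, b, c, ha, hb, hc, h1, h2, h3⟩ := exists_act hF hω p
  have e1 := dd_act h hf hZ p g
  have p1 := p.act g
  rw [h1, h2, h3] at e1 p1
  obtain ⟨g₁, k0, k1, k2⟩ := exists_diag hF hω (i := 0) (j := 1) (by decide) (inv_ne_zero ha)
  have e2 := dd_act h hf hZ p1 g₁
  have p2 := p1.act g₁
  rw [act_smul, act_smul, act_smul, k0, k1, k2 2 (by decide) (by decide), smul_smul, mul_inv_cancel₀ ha, one_smul,
    smul_smul, inv_inv] at e2 p2
  have hba : b * a ≠ 0 := mul_ne_zero hb ha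
  obtain ⟨g₂, m1, m2, m0⟩ := exists_diag hF hω (i := 1) (j := 2) (by decide) (inv_ne_zero hba)
  have e3 := dd_act h hf hZ p2 g₂
  rw [m0 0 (by decide) (by decide), act_smul, act_smul, m1, m2, smul_smul, mul_inv_cancel₀ hba, one_smul, smul_smul,
    inv_inv] at e3
  exact ⟨c * (b * a), mul_ne_zero hc hba, by rw [← e1, ← e2, ← e3]⟩

/-- the three values -/
theorem dd_cases {ω : F} (hω : ω ^ 2 + ω + 1 = 0) {u v w : Fin 6 → F} (p : Tri u v w) :
    dd t u v w = dd t (ee 0) (ee 1) (ee 2) ∨ dd t u v w = dd t (ee 0) (ee 1) (ω • ee 2) ∨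
      dd t u v w = dd t (ee 0) (ee 1) (ω ^ 2 • ee 2) := by
  obtain ⟨c, hc, e⟩ := dd_norm h hf hZ p
  rcases cases4 hF hω c with h1 | h1 | h1 | h1
  · exact absurd h1 hc
  · rw [h1, one_smul] at e; exact Or.inl e
  · rw [h1] at e; exact Or.inr (Or.inl e)
  · rw [h1] at e; exact Or.inr (Or.inr e)

end Norm

/-- **The kernel is generated by the values of the third difference.** -/
theorem ker_eq {K : Type u} [Group K] [Finite K] (hK : commutator K = ⊤) {f : K →* PSU 6 F 2}
    (hf : Function.Surjective f) (hZ : f.ker ≤ center K) (h2 : IsPGroup 2 f.ker) {t : (Fin 6 → F) → K}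
    (h : TL hF f t) : f.ker = closure {x | ∃ u v w, Tri u v w ∧ x = dd t u v w} := by
  have hle : closure {x | ∃ u v w, Tri u v w ∧ x = dd t u v w} ≤ f.ker := by
    rw [closure_le]
    rintro _ ⟨u, v, w, p, rfl⟩
    exact dd_ker h p
  refine Frat.ker_eq hK hf hZ h2 hle fun L _ _ q π c hq hπ hN hd => ?_
  have hT := TL.push hF h hq hπ
  refine false_of_bi hd hT fun u v w p => ?_
  have h1 : q (dd t u v w) = 1 := hN (subset_closure ⟨u, v, w, p, rfl⟩)
  have pvw : PP u (v + w) := ⟨p.uu, p.pvw.add hF, by rw [herm_add_right hF, p.uv, p.uw, add_zero]⟩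
  have h3 : yy (fun x => q (t x)) u (v + w) * yy (fun x => q (t x)) u v * yy (fun x => q (t x)) u w = 1 := by
    rw [← h1]
    unfold dd yy
    simp only [map_mul]
  have s1 := y_sq hT p.puv
  have s2 := y_sq hT p.puw
  calc yy (fun x => q (t x)) u (v + w)
      = (yy (fun x => q (t x)) u (v + w) * yy (fun x => q (t x)) u v * yy (fun x => q (t x)) u w) *
        (yy (fun x => q (t x)) u w)⁻¹ * (yy (fun x => q (t x)) u v)⁻¹ := by group
    _ = (yy (fun x => q (t x)) u w)⁻¹ * (yy (fun x => q (t x)) u v)⁻¹ := by rw [h3, one_mul]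
    _ = ((yy (fun x => q (t x)) u v) * (yy (fun x => q (t x)) u w))⁻¹ := by rw [mul_inv_rev]
    _ = ((yy (fun x => q (t x)) u w) * (yy (fun x => q (t x)) u v))⁻¹ := by
        rw [MW_comm hT (p.ti hF) (y_mem (Submodule.subset_span (by simp)) (Submodule.subset_span (by simp)))
          (y_mem (Submodule.subset_span (by simp)) (Submodule.subset_span (by simp)))]
    _ = (yy (fun x => q (t x)) u v)⁻¹ * (yy (fun x => q (t x)) u w)⁻¹ := by rw [mul_inv_rev]
    _ = _ := by rw [inv_eq_of_mul_eq_one_left s1, inv_eq_of_mul_eq_one_left s2]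

end Cfsg.Agent.KFacts.OddLift.USixL
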