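import Cfsg.Agent.KFacts.OddLift.USixL.Lift

/-!
# Good lifts are quadratic maps on totally isotropic subspaces

`TI W`: `W` is totally isotropic; `MW t W`: the group generated by the lifts `t x`, `x ∈ W`, elementary abelian.
`yy t u v = t u * t v * t (u + v)` : the polar map, `y_smul_left`, `y_symm`, `y_line_add`, `t_add`, `conj_y`.
-/

set_option autoImplicit false
set_option linter.unusedSectionVars false

namespace Cfsg.Agent.KFacts.OddLift.USixL

open Subgroup Cfsg Cfsg.Agent.LieClassical.HermBasic Cfsg.Agent.ClassicalGeometry.UnitTransv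
  Cfsg.Agent.SporadicStructure.UnitTwo Cfsg.Agent.R01.PSUSix Cfsg.Agent.KFacts.Mult.Calc
open Cfsg.Agent.ClassicalGeometry.UnitAutBasic (tau pr pr_surjective)
open scoped commutatorElement

universe u v

variable {F : Type v} [Field F] [Fintype F] {hF : Fintype.card F = 2 ^ 2}

/-- totally isotropic subspaces -/
def TI (W : Submodule F (Fin 6 → F)) : Prop := ∀ x ∈ W, ∀ y ∈ W, hermForm 6 F 2 x y = 0

variable {K : Type u} [Group K] {f : K →* PSU 6 F 2} {t : (Fin 6 → F) → K}

/-- the group generated by the lifts belonging to `W` -/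
def MW (t : (Fin 6 → F) → K) (W : Submodule F (Fin 6 → F)) : Subgroup K := closure (t '' (W : Set (Fin 6 → F)))

theorem t_mem {W : Submodule F (Fin 6 → F)} {x : Fin 6 → F} (hx : x ∈ W) : t x ∈ MW t W :=
  subset_closure ⟨x, hx, rfl⟩

/-- the polar map -/
def yy (t : (Fin 6 → F) → K) (u v : Fin 6 → F) : K := t u * t v * t (u + v)

theorem y_mem {W : Submodule F (Fin 6 → F)} {u v : Fin 6 → F} (hu : u ∈ W) (hv : v ∈ W) : yy t u v ∈ MW t W :=
  mul_mem (mul_mem (t_mem hu) (t_mem hv)) (t_mem (W.add_mem hu hv))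

variable (h : TL hF f t)

include h

theorem MW_comm {W : Submodule F (Fin 6 → F)} (hW : TI W) {a b : K} (ha : a ∈ MW t W) (hb : b ∈ MW t W) :
    a * b = b * a := by
  have hP : ∀ x ∈ t '' (W : Set (Fin 6 → F)), ∀ y ∈ t '' (W : Set (Fin 6 → F)), x * y = y * x := by
    rintro _ ⟨x, hx, rfl⟩ _ ⟨y, hy, rfl⟩
    exact h.comm x y (hW x hx x hx) (hW y hy y hy) (hW x hx y hy)
  have h1 := (Subgroup.isMulCommutative_closure hP).is_comm.comm (⟨a, ha⟩ : MW t W) ⟨b, hb⟩
  exact congrArg Subtype.val h1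

theorem MW_sq {W : Submodule F (Fin 6 → F)} (hW : TI W) {a : K} (ha : a ∈ MW t W) : a * a = 1 := by
  suffices key : a ∈ MW t W ∧ a * a = 1 from key.2
  have ha' := ha
  unfold MW at ha'
  induction ha' using closure_induction with
  | mem x hx =>
    obtain ⟨x, hx, rfl⟩ := hx
    exact ⟨t_mem hx, h.sq x (hW x hx x hx)⟩
  | one => exact ⟨one_mem _, mul_one 1⟩
  | mul x y hx hy h1 h2 =>
    have h3 := (h1 hx).2
    have h4 := (h2 hy).2
    refine ⟨mul_mem (h1 hx).1 (h2 hy).1, ?_⟩
    calc x * y * (x * y) = x * (y * x) * y := by group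
      _ = x * (x * y) * y := by rw [MW_comm h hW (h2 hy).1 (h1 hx).1]
      _ = (x * x) * (y * y) := by group
      _ = 1 := by rw [h3, h4, one_mul]
  | inv x hx h1 =>
    have h3 := (h1 hx).2
    refine ⟨inv_mem (h1 hx).1, ?_⟩
    rw [← mul_inv_rev, h3, inv_one]

/-- conjugation -/
theorem conj_MW {W W' : Submodule F (Fin 6 → F)} (hW : TI W) {k : K} {g : SU 6 F 2} (hk : f k = pr 6 F 2 g)
    (hg : ∀ x ∈ W, act g x ∈ W') {a : K} (ha : a ∈ MW t W) : k * a * k⁻¹ ∈ MW t W' := by
  unfold MW at ha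
  induction ha using closure_induction with
  | mem x hx =>
    obtain ⟨x, hx, rfl⟩ := hx
    rw [h.conj k g x (hW x hx x hx) hk]
    exact t_mem (hg x hx)
  | one => rw [mul_one, mul_inv_cancel]; exact one_mem _
  | mul x y _ _ h1 h2 =>
    have e : k * (x * y) * k⁻¹ = (k * x * k⁻¹) * (k * y * k⁻¹) := by group
    rw [e]; exact mul_mem h1 h2
  | inv x _ h1 =>
    have e : k * x⁻¹ * k⁻¹ = (k * x * k⁻¹)⁻¹ := by group
    rw [e]; exact inv_mem h1

/-- a perpendicular isotropic pair -/
structure PP (u v : Fin 6 → F) : Prop where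
  uu : hermForm 6 F 2 u u = 0
  vv : hermForm 6 F 2 v v = 0
  uv : hermForm 6 F 2 u v = 0

omit h in
theorem PP.ti (hF : Fintype.card F = 2 ^ 2) {u v : Fin 6 → F} (p : PP u v) : TI (Submodule.span F {u, v}) := by
  have hvu := herm_eq_zero_swap hF p.uv
  intro x hx y hy
  obtain ⟨a, b, rfl⟩ := Submodule.mem_span_pair.1 hx
  obtain ⟨c, d, rfl⟩ := Submodule.mem_span_pair.1 hy
  simp only [herm_add_left, herm_smul_left, herm_add_right hF, herm_smul_right, p.uu, p.vv, p.uv, hvu, mul_zero,
    add_zero]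

omit h in
theorem PP.symm (hF : Fintype.card F = 2 ^ 2) {u v : Fin 6 → F} (p : PP u v) : PP v u :=
  ⟨p.vv, p.uu, herm_eq_zero_swap hF p.uv⟩

omit h in
theorem PP.smul (hF : Fintype.card F = 2 ^ 2) {u v : Fin 6 → F} (p : PP u v) (a b : F) : PP (a • u) (b • v) :=
  ⟨herm_smul_self hF p.uu a, herm_smul_self hF p.vv b, by
    rw [herm_smul_left, herm_smul_right, p.uv, mul_zero, mul_zero]⟩

omit h in
theorem PP.add (hF : Fintype.card F = 2 ^ 2) {u v : Fin 6 → F} (p : PP u v) : hermForm 6 F 2 (u + v) (u + v) = 0 :=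
  p.ti hF _ (Submodule.add_mem _ (Submodule.subset_span (by simp)) (Submodule.subset_span (by simp))) _
    (Submodule.add_mem _ (Submodule.subset_span (by simp)) (Submodule.subset_span (by simp)))

omit h in
theorem Line.pp {u v : Fin 6 → F} (p : Line u v) : PP u v := ⟨p.uu, p.vv, p.uv⟩

theorem y_symm {u v : Fin 6 → F} (p : PP u v) : yy t u v = yy t v u := by
  unfold yy
  rw [h.comm u v p.uu p.vv p.uv, add_comm]

theorem y_zero_right {u : Fin 6 → F} (p : hermForm 6 F 2 u u = 0) : yy t u 0 = 1 := by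
  unfold yy
  rw [h.zero, mul_one, add_zero, h.sq u p]

theorem y_zero_left {u : Fin 6 → F} (p : hermForm 6 F 2 u u = 0) : yy t 0 u = 1 := by
  unfold yy
  rw [h.zero, one_mul, zero_add, h.sq u p]

theorem y_smul_smul {u v : Fin 6 → F} (p : PP u v) {c : F} (hc : c ≠ 0) : yy t (c • u) (c • v) = yy t u v := by
  unfold yy
  rw [h.smul c u hc p.uu, h.smul c v hc p.vv, ← smul_add, h.smul c (u + v) hc (p.add hF)]

theorem y_smul_left {u v : Fin 6 → F} (p : PP u v) {c : F} (hc : c ≠ 0) : yy t (c • u) v = yy t u (c⁻¹ • v) := by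
  have e := y_smul_smul h (p.smul hF c 1) (inv_ne_zero hc)
  simp only [smul_smul, inv_mul_cancel₀ hc, one_smul, mul_one] at e
  exact e.symm

theorem y_sq {u v : Fin 6 → F} (p : PP u v) : yy t u v * yy t u v = 1 :=
  MW_sq h (p.ti hF) (y_mem (Submodule.subset_span (by simp)) (Submodule.subset_span (by simp)))

theorem conj_y {u v : Fin 6 → F} (p : PP u v) {k : K} {g : SU 6 F 2} (hk : f k = pr 6 F 2 g) :
    k * yy t u v * k⁻¹ = yy t (act g u) (act g v) := by
  unfold yy
  rw [← act_add, ← h.conj k g u p.uu hk, ← h.conj k g v p.vv hk, ← h.conj k g (u + v) (p.add hF) hk]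
  group

/-- the quadratic map -/
theorem t_add {u v : Fin 6 → F} (p : PP u v) : t (u + v) = t u * t v * yy t u v := by
  have hW := p.ti hF
  have hu : t u ∈ MW t (Submodule.span F {u, v}) := t_mem (Submodule.subset_span (by simp))
  have hv : t v ∈ MW t (Submodule.span F {u, v}) := t_mem (Submodule.subset_span (by simp))
  have h1 := MW_sq h hW (mul_mem hu hv)
  unfold yy
  rw [← mul_assoc, h1, one_mul]

/-- the polar map on a line -/
theorem y_line {u v : Fin 6 → F} (p : Line u v) {ω : F} (hω : ω ^ 2 + ω + 1 = 0) :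
    yy t u v = t (ω • u + v) * t (ω ^ 2 • u + v) := by
  have h1 := h.line u v p ω hω
  have hW := p.pp.ti hF
  have mu : u ∈ Submodule.span F {u, v} := Submodule.subset_span (by simp)
  have mv : v ∈ Submodule.span F {u, v} := Submodule.subset_span (by simp)
  have ma : ∀ a : F, a • u + v ∈ Submodule.span F {u, v} := fun a =>
    Submodule.add_mem _ (Submodule.smul_mem _ a mu) mv
  have h2 := MW_sq h hW (y_mem (t := t) mu mv)
  have h3 : yy t u v * (t (ω • u + v) * t (ω ^ 2 • u + v)) = 1 := by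
    rw [← h1]; unfold yy; simp only [mul_assoc]
  exact mul_left_cancel (h2.trans h3.symm)

/-- additivity on a line, symmetric form -/
theorem y_line_three {u v : Fin 6 → F} (p : Line u v) {ω : F} (hω : ω ^ 2 + ω + 1 = 0) :
    yy t u v * yy t u (ω • v) * yy t u (ω ^ 2 • v) = 1 := by
  have hω0 := omega_ne_zero hω
  have h3 : ω ^ 3 = 1 := omega_cubed hω
  have i1 : (ω ^ 2)⁻¹ = ω := inv_eq_of_mul_eq_one_right (by linear_combination h3)
  have i2 : ω⁻¹ = ω ^ 2 := inv_eq_of_mul_eq_one_right (by linear_combination h3)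
  have hW := p.pp.ti hF
  have mu : u ∈ Submodule.span F {u, v} := Submodule.subset_span (by simp)
  have mv : v ∈ Submodule.span F {u, v} := Submodule.subset_span (by simp)
  have ma : ∀ a : F, a • u + v ∈ Submodule.span F {u, v} := fun a =>
    Submodule.add_mem _ (Submodule.smul_mem _ a mu) mv
  have e1 : yy t u (ω • v) = t (u + v) * t (ω • u + v) := by
    have q := y_smul_left h p.pp (c := ω ^ 2) (pow_ne_zero 2 hω0)
    rw [i1] at q
    rw [← q]
    have r := y_line h (p.smul hF (a := ω ^ 2) (b := 1) (pow_ne_zero 2 hω0) one_ne_zero) hω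
    rw [one_smul, smul_smul, smul_smul] at r
    have r1 : ω * ω ^ 2 = 1 := by linear_combination h3
    have r2 : ω ^ 2 * ω ^ 2 = ω := by linear_combination ω * h3
    rw [r1, r2, one_smul] at r
    exact r
  have e2 : yy t u (ω ^ 2 • v) = t (ω ^ 2 • u + v) * t (u + v) := by
    have q := y_smul_left h p.pp (c := ω) hω0
    rw [i2] at q
    rw [← q]
    have r := y_line h (p.smul hF (a := ω) (b := 1) hω0 one_ne_zero) hω
    rw [one_smul, smul_smul, smul_smul] at r
    have r1 : ω * ω = ω ^ 2 := by ring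
    have r2 : ω ^ 2 * ω = 1 := by linear_combination h3
    rw [r1, r2, one_smul] at r
    exact r
  rw [y_line h p hω, e1, e2]
  have m1 : t (u + v) ∈ MW t (Submodule.span F {u, v}) := t_mem (Submodule.add_mem _ mu mv)
  have m2 := t_mem (t := t) (ma ω)
  have m3 := t_mem (t := t) (ma (ω ^ 2))
  have c := fun {a b : K} (ha : a ∈ MW t (Submodule.span F {u, v})) (hb : b ∈ MW t (Submodule.span F {u, v})) =>
    MW_comm h hW ha hb
  have s := fun {a : K} (ha : a ∈ MW t (Submodule.span F {u, v})) => MW_sq h hW ha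
  generalize t (u + v) = A at m1 ⊢
  generalize t (ω • u + v) = B at m2 ⊢
  generalize t (ω ^ 2 • u + v) = C at m3 ⊢
  calc B * C * (A * B) * (C * A) = (B * C * A) * (B * C * A) := by group
    _ = 1 := s (mul_mem (mul_mem m2 m3) m1)

/-- additivity on a line -/
theorem y_line_add {u v : Fin 6 → F} (p : Line u v) (a b : F) :
    yy t u (a • v) * yy t u (b • v) = yy t u ((a + b) • v) := by
  obtain ⟨ω, hω⟩ := exists_omega hF
  have h2 := two_eq_zero hF
  have hs := add_self hF
  have hW := p.pp.ti hF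
  have mu : u ∈ Submodule.span F {u, v} := Submodule.subset_span (by simp)
  have mv : v ∈ Submodule.span F {u, v} := Submodule.subset_span (by simp)
  have my : ∀ a : F, yy t u (a • v) ∈ MW t (Submodule.span F {u, v}) := fun a =>
    y_mem mu (Submodule.smul_mem _ a mv)
  have y0 : yy t u ((0 : F) • v) = 1 := by rw [zero_smul]; exact y_zero_right h p.uu
  have sq : ∀ a : F, yy t u (a • v) * yy t u (a • v) = 1 := fun a => MW_sq h hW (my a)
  have cm : ∀ a b : F, yy t u (a • v) * yy t u (b • v) = yy t u (b • v) * yy t u (a • v) := fun a b =>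
    MW_comm h hW (my a) (my b)
  have k3 := y_line_three h p hω
  have m1 := my 1
  have sq1 := sq 1
  have k12 : yy t u ((1 : F) • v) * yy t u (ω • v) = yy t u (ω ^ 2 • v) := by
    rw [one_smul]
    have := sq (ω ^ 2)
    exact mul_right_cancel (k3.trans this.symm)
  have k13 : yy t u ((1 : F) • v) * yy t u (ω ^ 2 • v) = yy t u (ω • v) := by
    rw [← k12, ← mul_assoc, sq, one_mul]
  have k23 : yy t u (ω • v) * yy t u (ω ^ 2 • v) = yy t u ((1 : F) • v) := by
    rw [← k12, cm 1 ω, ← mul_assoc, sq, one_mul]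
  rcases cases4 hF hω a with ha | ha | ha | ha <;> rcases cases4 hF hω b with hb | hb | hb | hb <;> rw [ha, hb]
  · rw [y0, one_mul, add_zero, y0]
  · rw [y0, one_mul, zero_add]
  · rw [y0, one_mul, zero_add]
  · rw [y0, one_mul, zero_add]
  · rw [y0, mul_one, add_zero]
  · rw [sq, hs, y0]
  · rw [k12]; congr 2; linear_combination hω - h2 * (ω + 1)
  · rw [k13]; congr 2; linear_combination hω - h2 * (ω ^ 2 + 1)
  · rw [y0, mul_one, add_zero]
  · rw [cm, k12]; congr 2; linear_combination hω - h2 * (ω + 1)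
  · rw [sq, hs, y0]
  · rw [k23]; congr 2; linear_combination hω - h2 * (ω ^ 2 + ω)
  · rw [y0, mul_one, add_zero]
  · rw [cm, k13]; congr 2; linear_combination hω - h2 * (ω ^ 2 + 1)
  · rw [cm, k23]; congr 2; linear_combination hω - h2 * (ω ^ 2 + ω)
  · rw [sq, hs, y0]

end Cfsg.Agent.KFacts.OddLift.USixL
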