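import Cfsg.Agent.KFacts.OddLift.USixL.Quad
import Cfsg.Agent.KFacts.OddLift.Frat
import Cfsg.Agent.S0280

/-!
# If the good lifts are quadratic with biadditive polar map then the extension splits over a Sylow 2-subgroup

`false_of_biadd`: a perfect double cover of `PSU₆(2)` with good lifts `t` such that
`yy t u (v + w) = yy t u v * yy t u w` for all independent pairwise orthogonal isotropic `u, v, w` does not exist.
-/

set_option autoImplicit false
set_option linter.unusedSectionVars false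

namespace Cfsg.Agent.KFacts.OddLift.USixL

open Subgroup Cfsg Cfsg.Agent.LieClassical.HermBasic Cfsg.Agent.ClassicalGeometry.UnitTransv
  Cfsg.Agent.SporadicStructure.UnitTwo Cfsg.Agent.R01.PSUSix Cfsg.Agent.KFacts.Mult.Calc Cfsg.Agent.KFacts.MulDef
open Cfsg.Agent.ClassicalGeometry.UnitAutBasic (tau pr pr_surjective exists_scalar_of_pr_eq)
open scoped commutatorElement Pointwise

universe u v

variable {F : Type v} [Field F] [Fintype F] {hF : Fintype.card F = 2 ^ 2}

/-! ### A counting lemma -/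

/-- `f` is injective on `A` and `|A| = n`. -/
structure St {K X : Type*} [Group K] [Group X] (f : K →* X) (A : Subgroup K) (n : ℕ) : Prop where
  inj : ∀ a ∈ A, f a = 1 → a = 1
  card : Nat.card A = n

theorem St.step {K X : Type*} [Group K] [Group X] {f : K →* X} {A R : Subgroup K} {n m : ℕ}
    (hA : St f A n) (hR : St f R m) (hn : ∀ r ∈ R, ∀ a ∈ A, r * a * r⁻¹ ∈ A)
    (hs : ∀ a ∈ A, ∀ r ∈ R, f a = f r → f r = 1) : St f (R ⊔ A) (m * n) := by
  have hle : R ≤ normalizer (A : Set K) := by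
    intro r hr
    rw [mem_normalizer_iff]
    intro a
    refine ⟨fun ha => hn r hr a ha, fun ha => ?_⟩
    have h2 := hn r⁻¹ (inv_mem hr) _ ha
    have e : r⁻¹ * (r * a * r⁻¹) * r⁻¹⁻¹ = a := by group
    rwa [e] at h2
  have hcoe : ((R ⊔ A : Subgroup K) : Set K) = (R : Set K) * (A : Set K) :=
    Subgroup.coe_mul_of_left_le_normalizer_right _ _ hle
  have hmem : ∀ x, x ∈ R ⊔ A ↔ ∃ r ∈ R, ∃ a ∈ A, r * a = x := by
    intro x
    rw [← SetLike.mem_coe, hcoe, Set.mem_mul]
    rfl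
  refine ⟨?_, ?_⟩
  · intro x hx h1
    obtain ⟨r, hr, a, ha, rfl⟩ := (hmem x).1 hx
    have h2 : f a⁻¹ = f r := by
      rw [map_mul] at h1
      rw [map_inv, eq_comm]
      exact eq_inv_of_mul_eq_one_left h1
    have h3 := hs _ (inv_mem ha) r hr h2
    have h4 : f a = 1 := by rwa [map_mul, h3, one_mul] at h1
    rw [hR.inj r hr h3, hA.inj a ha h4, one_mul]
  · rw [← hR.card, ← hA.card, ← Nat.card_prod]
    refine (Nat.card_congr (Equiv.ofBijective (fun p : R × A => (⟨p.1.1 * p.2.1,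
      mul_mem (mem_sup_left p.1.2) (mem_sup_right p.2.2)⟩ : ↥(R ⊔ A))) ⟨?_, ?_⟩)).symm
    · rintro ⟨⟨r, hr⟩, ⟨a, ha⟩⟩ ⟨⟨r', hr'⟩, ⟨a', ha'⟩⟩ e
      have e1 : r * a = r' * a' := congrArg Subtype.val e
      have e2 : a' * a⁻¹ = r'⁻¹ * r := by
        calc a' * a⁻¹ = r'⁻¹ * (r' * a') * a⁻¹ := by group
          _ = r'⁻¹ * (r * a) * a⁻¹ := by rw [e1]
          _ = r'⁻¹ * r := by group
      have e3 := hs _ (mul_mem ha' (inv_mem ha)) _ (mul_mem (inv_mem hr') hr) (by rw [e2])
      have e4 := hR.inj _ (mul_mem (inv_mem hr') hr) e3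
      have e5 : r = r' := (inv_mul_eq_one.1 e4).symm
      subst e5
      have e6 : a = a' := mul_left_cancel e1
      subst e6
      rfl
    · rintro ⟨x, hx⟩
      obtain ⟨r, hr, a, ha, rfl⟩ := (hmem x).1 hx
      exact ⟨⟨⟨r, hr⟩, ⟨a, ha⟩⟩, rfl⟩

/-! ### Elements of `SU₆(2)` -/

/-- the stabiliser of `x₀`, `N` (pointwise) and `b + N` -/
def Gam (x₀ b : Fin 6 → F) (N : Submodule F (Fin 6 → F)) : Subgroup (SU 6 F 2) where
  carrier := {g | act g x₀ = x₀ ∧ (∀ n ∈ N, act g n = n) ∧ act g b - b ∈ N}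
  one_mem' := ⟨act_one _, fun n _ => act_one n, by rw [act_one, sub_self]; exact N.zero_mem⟩
  mul_mem' := by
    rintro g g' ⟨h1, h2, h3⟩ ⟨k1, k2, k3⟩
    refine ⟨by rw [act_mul, k1, h1], fun n hn => by rw [act_mul, k2 n hn, h2 n hn], ?_⟩
    have e : act (g * g') b - b = (act g b - b) + (act g' b - b) := by
      have e1 : act g' b = b + (act g' b - b) := by abel
      rw [act_mul]
      conv_lhs => rw [e1, act_add, h2 _ k3]
      abel
    rw [e]
    exact N.add_mem h3 k3
  inv_mem' := by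
    rintro g ⟨h1, h2, h3⟩
    have hi : ∀ x, act g x = x → act g⁻¹ x = x := fun x hx => by
      conv_lhs => rw [← hx]
      exact act_inv_act g x
    refine ⟨hi _ h1, fun n hn => hi _ (h2 n hn), ?_⟩
    have e : act g⁻¹ b - b = -(act g b - b) := by
      have e1 : act g b = b + (act g b - b) := by abel
      have e2 : act g⁻¹ (act g b) = act g⁻¹ b + (act g b - b) := by
        conv_lhs => rw [e1, act_add, hi _ (h2 _ h3)]
      rw [act_inv_act] at e2
      rw [eq_comm, neg_eq_iff_add_eq_zero]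
      have : (act g b - b) = b - act g⁻¹ b := by
        rw [eq_sub_iff_add_eq, add_comm]; exact e2.symm
      rw [this]; abel
    rw [e]
    exact N.neg_mem h3

theorem mem_Gam {x₀ b : Fin 6 → F} {N : Submodule F (Fin 6 → F)} {g : SU 6 F 2} :
    g ∈ Gam x₀ b N ↔ act g x₀ = x₀ ∧ (∀ n ∈ N, act g n = n) ∧ act g b - b ∈ N := Iff.rfl

/-- the element with image of `yy t u v` -/
def YS (hF : Fintype.card F = 2 ^ 2) {u v : Fin 6 → F} (p : PP u v) : SU 6 F 2 :=
  T hF u p.uu * T hF v p.vv * T hF (u + v) (p.add hF)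

theorem act_YS {u v : Fin 6 → F} (p : PP u v) (x : Fin 6 → F) :
    act (YS hF p) x = x + (hermForm 6 F 2 x u • v + hermForm 6 F 2 x v • u) := by
  have hvu := herm_eq_zero_swap hF p.uv
  have h2 := two_eq_zero hF
  unfold YS
  rw [act_mul, act_mul, act_T, act_T, act_T]
  simp only [herm_add_left, herm_smul_left, herm_add_right hF, p.uu, p.vv, p.uv, hvu, mul_zero, add_zero]
  funext i
  simp only [Pi.add_apply, Pi.smul_apply, smul_eq_mul]
  linear_combination (hermForm 6 F 2 x u * u i + hermForm 6 F 2 x v * v i) * h2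

section Rep

variable {K : Type u} [Group K] {f : K →* PSU 6 F 2} {t : (Fin 6 → F) → K} (h : TL hF f t)

/-- the preimage of the image of a subgroup of `SU₆(2)` -/
def PB (f : K →* PSU 6 F 2) (Γ : Subgroup (SU 6 F 2)) : Subgroup K := (Γ.map (pr 6 F 2)).comap f

include h

theorem map_t {u : Fin 6 → F} (hu : hermForm 6 F 2 u u = 0) : f (t u) = pr 6 F 2 (T hF u hu) := by
  rw [h.map u hu, tau_eq_pr hF hu]

theorem map_y {u v : Fin 6 → F} (p : PP u v) : f (yy t u v) = pr 6 F 2 (YS hF p) := by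
  unfold yy YS
  rw [map_mul, map_mul, map_t h p.uu, map_t h p.vv, map_t h (p.add hF), map_mul, map_mul]

theorem t_mem_PB {u : Fin 6 → F} (hu : hermForm 6 F 2 u u = 0) {x₀ b : Fin 6 → F} {N : Submodule F (Fin 6 → F)}
    (h0 : hermForm 6 F 2 x₀ u = 0) (hN : ∀ n ∈ N, hermForm 6 F 2 n u = 0) (hb : hermForm 6 F 2 b u • u ∈ N) :
    t u ∈ PB f (Gam x₀ b N) := by
  refine ⟨T hF u hu, ⟨act_T_of_perp hF u hu _ h0, fun n hn => act_T_of_perp hF u hu _ (hN n hn), ?_⟩,
    (map_t h hu).symm⟩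
  rw [act_T, add_sub_cancel_left]
  exact hb

theorem y_mem_PB {u v : Fin 6 → F} (p : PP u v) {x₀ b : Fin 6 → F} {N : Submodule F (Fin 6 → F)}
    (h0 : hermForm 6 F 2 x₀ u = 0) (h1 : hermForm 6 F 2 x₀ v = 0) (hN : ∀ n ∈ N, hermForm 6 F 2 n u = 0)
    (hN1 : ∀ n ∈ N, hermForm 6 F 2 n v = 0)
    (hb : hermForm 6 F 2 b u • v + hermForm 6 F 2 b v • u ∈ N) : yy t u v ∈ PB f (Gam x₀ b N) := by
  refine ⟨YS hF p, ⟨?_, fun n hn => ?_, ?_⟩, (map_y h p).symm⟩
  · rw [act_YS, h0, h1, zero_smul, zero_smul, add_zero, add_zero]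
  · rw [act_YS, hN n hn, hN1 n hn, zero_smul, zero_smul, add_zero, add_zero]
  · rw [act_YS, add_sub_cancel_left]
    exact hb

omit h in
/-- separation -/
theorem sep (hF : Fintype.card F = 2 ^ 2) {A : Subgroup K} {x₀ b : Fin 6 → F} {N : Submodule F (Fin 6 → F)}
    (hA : A ≤ PB f (Gam x₀ b N)) (hx : x₀ ≠ 0)
    {r : K} {g' : SU 6 F 2} (hr : f r = pr 6 F 2 g') (h0 : act g' x₀ = x₀) (h1 : act g' b - b ∈ N → f r = 1) :
    ∀ a ∈ A, f a = f r → f r = 1 := by
  intro a ha e
  obtain ⟨g, ⟨g0, gN, gb⟩, hg⟩ := hA ha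
  apply h1
  have e1 : pr 6 F 2 g = pr 6 F 2 g' := by
    rw [← hr, ← e]; exact hg
  obtain ⟨c, -, hc'⟩ := exists_scalar_of_pr_eq hF (by norm_num) e1
  have hc : ∀ x, act g' x = c • act g x := hc'
  have hc1 : c = 1 := by
    have e2 := hc x₀
    rw [h0, g0] at e2
    obtain ⟨i, hi⟩ : ∃ i, x₀ i ≠ 0 := by
      by_contra hcon
      push Not at hcon
      exact hx (funext hcon)
    have e3 := congrFun e2 i
    rw [Pi.smul_apply, smul_eq_mul] at e3
    exact mul_right_cancel₀ hi (by rw [one_mul]; exact e3.symm)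
  have e4 := hc b
  rw [hc1, one_smul] at e4
  rw [e4]
  exact gb

/-- the root group of order two -/
def RT (t : (Fin 6 → F) → K) (u : Fin 6 → F) : Subgroup K := zpowers (t u)

theorem mem_RT {u : Fin 6 → F} (hu : hermForm 6 F 2 u u = 0) {a : K} : a ∈ RT t u ↔ a = 1 ∨ a = t u := by
  constructor
  · intro ha
    obtain ⟨n, rfl⟩ := mem_zpowers_iff.1 ha
    rcases Int.even_or_odd' n with ⟨m, rfl | rfl⟩
    · left
      rw [zpow_mul, zpow_ofNat, pow_two, h.sq u hu, one_zpow]
    · right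
      rw [zpow_add, zpow_mul, zpow_ofNat, pow_two, h.sq u hu, one_zpow, one_mul, zpow_one]
  · rintro (rfl | rfl)
    · exact one_mem _
    · exact mem_zpowers _

theorem st_RT {u : Fin 6 → F} (hu : hermForm 6 F 2 u u = 0) (u0 : u ≠ 0) : St f (RT t u) 2 where
  inj a ha h1 := by
    rcases (mem_RT h hu).1 ha with h2 | h2
    · exact h2
    · rw [h2, h.map u hu] at h1
      exact absurd h1 (tau_ne_one hF (by norm_num) hu u0)
  card := by
    have hne : t u ≠ 1 := by
      intro e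
      have := h.map u hu
      rw [e, map_one] at this
      exact tau_ne_one hF (by norm_num) hu u0 this.symm
    unfold RT
    rw [Nat.card_zpowers]
    exact orderOf_eq_prime (by rw [pow_two]; exact h.sq u hu) hne

/-- the root group of order four -/
def RY (h : TL hF f t) {u v : Fin 6 → F} (p : Line u v) : Subgroup K where
  carrier := {k | ∃ a : F, k = yy t u (a • v)}
  one_mem' := ⟨0, by rw [zero_smul, y_zero_right h p.uu]⟩
  mul_mem' := by
    rintro _ _ ⟨a, rfl⟩ ⟨b, rfl⟩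
    exact ⟨a + b, y_line_add h p a b⟩
  inv_mem' := by
    rintro _ ⟨a, rfl⟩
    refine ⟨a, inv_eq_of_mul_eq_one_left ?_⟩
    have := y_sq h (p.pp.smul hF 1 a)
    rwa [one_smul] at this

omit h in
theorem mem_RY {h : TL hF f t} {u v : Fin 6 → F} {p : Line u v} {k : K} :
    k ∈ RY h p ↔ ∃ a : F, k = yy t u (a • v) := Iff.rfl

theorem pp_smul {u v : Fin 6 → F} (p : Line u v) (a : F) : PP u (a • v) := by
  have := p.pp.smul hF 1 a
  rwa [one_smul] at this

theorem RY_inj {u v : Fin 6 → F} (p : Line u v) {a : F} (ha : f (yy t u (a • v)) = 1) : a = 0 := by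
  by_contra h0
  rw [map_y h (pp_smul h p a), ← map_one (pr 6 F 2)] at ha
  obtain ⟨c, -, hc'⟩ := exists_scalar_of_pr_eq hF (by norm_num) ha.symm
  have hc : ∀ x, act (YS hF (pp_smul h p a)) x = c • act (1 : SU 6 F 2) x := hc'
  have hc1 : c = 1 := by
    have e2 := hc u
    rw [act_YS, p.uu, herm_smul_right, p.uv, mul_zero, zero_smul, zero_smul, add_zero, add_zero, act_one] at e2
    obtain ⟨i, hi⟩ : ∃ i, u i ≠ 0 := by
      by_contra hcon
      push Not at hcon
      exact p.u0 (funext hcon)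
    have e3 := congrFun e2 i
    rw [Pi.smul_apply, smul_eq_mul] at e3
    exact mul_right_cancel₀ hi (by rw [one_mul]; exact e3.symm)
  obtain ⟨y, hy⟩ := exists_herm_ne_zero hF p.u0
  have hyu : hermForm 6 F 2 y u ≠ 0 := fun e => hy (herm_eq_zero_swap hF e)
  have e4 := hc y
  rw [hc1, one_smul, act_YS, act_one] at e4
  have e5 : hermForm 6 F 2 y u • a • v + hermForm 6 F 2 y (a • v) • u = 0 := by
    have := congrArg (fun z => z - y) e4
    simp only [add_sub_cancel_left, sub_self] at this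
    exact this
  rw [smul_smul] at e5
  have hne : hermForm 6 F 2 y u * a ≠ 0 := mul_ne_zero hyu h0
  apply p.np (-((hermForm 6 F 2 y u * a)⁻¹ * hermForm 6 F 2 y (a • v)))
  have e6 : (hermForm 6 F 2 y u * a) • v = -(hermForm 6 F 2 y (a • v) • u) := eq_neg_of_add_eq_zero_left e5
  rw [neg_smul, mul_smul, ← smul_neg, ← e6, smul_smul, inv_mul_cancel₀ hne, one_smul]

theorem st_RY {u v : Fin 6 → F} (p : Line u v) : St f (RY h p) 4 where
  inj a ha h1 := by
    obtain ⟨a, rfl⟩ := ha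
    rw [RY_inj h p h1, zero_smul, y_zero_right h p.uu]
  card := by
    have e : (4 : ℕ) = Nat.card F := by rw [Nat.card_eq_fintype_card, hF]; norm_num
    rw [e]
    refine (Nat.card_congr (Equiv.ofBijective (fun a : F => (⟨yy t u (a • v), ⟨a, rfl⟩⟩ : RY h p)) ⟨?_, ?_⟩)).symm
    · intro a b hab
      have e1 : yy t u (a • v) = yy t u (b • v) := congrArg Subtype.val hab
      have e2 := y_line_add h p a b
      rw [e1, y_line_add h p b b, add_self hF b, zero_smul, y_zero_right h p.uu] at e2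
      have e3 : a + b = 0 := RY_inj h p (by rw [← e2, map_one])
      exact eq_of_add_eq_zero hF e3
    · rintro ⟨_, a, rfl⟩
      exact ⟨a, rfl⟩

theorem RY_le_MW {u v : Fin 6 → F} (p : Line u v) {W : Submodule F (Fin 6 → F)} (hu : u ∈ W) (hv : v ∈ W) :
    RY h p ≤ MW t W := by
  rintro _ ⟨a, rfl⟩
  exact y_mem hu (W.smul_mem a hv)

omit h in
theorem RT_le_MW {u : Fin 6 → F} {W : Submodule F (Fin 6 → F)} (hu : u ∈ W) : RT t u ≤ MW t W := by
  rw [RT, zpowers_le]
  exact t_mem hu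

end Rep

end Cfsg.Agent.KFacts.OddLift.USixL
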